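import Cfsg.Agent.Lib.Fus.SymSix.Enum712.Log712Data

/-! Checks of a coset enumeration. -/

set_option autoImplicit false
set_option maxRecDepth 100000
set_option maxHeartbeats 4000000
set_option Elab.async false

namespace Cfsg.Agent.Fus.SymSix.Enum712

open Cfsg.Agent.Spor.Cos

theorem log712_def0 : allBlock log712.chkDef 15198 512 0 = true := by decide +kernel

theorem log712_def1 : allBlock log712.chkDef 15198 512 1 = true := by decide +kernel

theorem log712_def2 : allBlock log712.chkDef 15198 512 2 = true := by decide +kernel

theorem log712_def3 : allBlock log712.chkDef 15198 512 3 = true := by decide +kernel

theorem log712_def4 : allBlock log712.chkDef 15198 512 4 = true := by decide +kernel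

theorem log712_def5 : allBlock log712.chkDef 15198 512 5 = true := by decide +kernel

theorem log712_def6 : allBlock log712.chkDef 15198 512 6 = true := by decide +kernel

theorem log712_def7 : allBlock log712.chkDef 15198 512 7 = true := by decide +kernel

theorem log712_def8 : allBlock log712.chkDef 15198 512 8 = true := by decide +kernel

theorem log712_def9 : allBlock log712.chkDef 15198 512 9 = true := by decide +kernel

theorem log712_def10 : allBlock log712.chkDef 15198 512 10 = true := by decide +kernel

theorem log712_def11 : allBlock log712.chkDef 15198 512 11 = true := by decide +kernel

theorem log712_def12 : allBlock log712.chkDef 15198 512 12 = true := by decide +kernel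

theorem log712_def13 : allBlock log712.chkDef 15198 512 13 = true := by decide +kernel

theorem log712_def14 : allBlock log712.chkDef 15198 512 14 = true := by decide +kernel

theorem log712_def15 : allBlock log712.chkDef 15198 512 15 = true := by decide +kernel

theorem log712_def16 : allBlock log712.chkDef 15198 512 16 = true := by decide +kernel

theorem log712_def17 : allBlock log712.chkDef 15198 512 17 = true := by decide +kernel

theorem log712_def18 : allBlock log712.chkDef 15198 512 18 = true := by decide +kernel

theorem log712_def19 : allBlock log712.chkDef 15198 512 19 = true := by decide +kernel

theorem log712_def20 : allBlock log712.chkDef 15198 512 20 = true := by decide +kernel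

theorem log712_def21 : allBlock log712.chkDef 15198 512 21 = true := by decide +kernel

theorem log712_def22 : allBlock log712.chkDef 15198 512 22 = true := by decide +kernel

theorem log712_def23 : allBlock log712.chkDef 15198 512 23 = true := by decide +kernel

end Cfsg.Agent.Fus.SymSix.Enum712
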