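import Cfsg.Agent.Lib.Fus.SymSix.Enum712.Log712Data

/-! Checks of a coset enumeration. -/

set_option autoImplicit false
set_option maxRecDepth 100000
set_option maxHeartbeats 4000000
set_option Elab.async false

namespace Cfsg.Agent.Fus.SymSix.Enum712

open Cfsg.Agent.Spor.Cos

theorem log712_def24 : allBlock log712.chkDef 15198 512 24 = true := by decide +kernel

theorem log712_def25 : allBlock log712.chkDef 15198 512 25 = true := by decide +kernel

theorem log712_def26 : allBlock log712.chkDef 15198 512 26 = true := by decide +kernel

theorem log712_def27 : allBlock log712.chkDef 15198 512 27 = true := by decide +kernel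

theorem log712_def28 : allBlock log712.chkDef 15198 512 28 = true := by decide +kernel

theorem log712_def29 : allBlock log712.chkDef 15198 512 29 = true := by decide +kernel

end Cfsg.Agent.Fus.SymSix.Enum712
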