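import Cfsg.Agent.Lib.Fus.SymSix.Enum712.Log712Data

/-! Checks of a coset enumeration. -/

set_option autoImplicit false
set_option maxRecDepth 100000
set_option maxHeartbeats 4000000
set_option Elab.async false

namespace Cfsg.Agent.Fus.SymSix.Enum712

open Cfsg.Agent.Spor.Cos

theorem log712_final0 : allBlock log712.chkFinal 83160 512 0 = true := by decide +kernel

theorem log712_final1 : allBlock log712.chkFinal 83160 512 1 = true := by decide +kernel

theorem log712_final2 : allBlock log712.chkFinal 83160 512 2 = true := by decide +kernel

theorem log712_final3 : allBlock log712.chkFinal 83160 512 3 = true := by decide +kernel

theorem log712_final4 : allBlock log712.chkFinal 83160 512 4 = true := by decide +kernel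

theorem log712_final5 : allBlock log712.chkFinal 83160 512 5 = true := by decide +kernel

theorem log712_final6 : allBlock log712.chkFinal 83160 512 6 = true := by decide +kernel

theorem log712_final7 : allBlock log712.chkFinal 83160 512 7 = true := by decide +kernel

theorem log712_final8 : allBlock log712.chkFinal 83160 512 8 = true := by decide +kernel

theorem log712_final9 : allBlock log712.chkFinal 83160 512 9 = true := by decide +kernel

theorem log712_final10 : allBlock log712.chkFinal 83160 512 10 = true := by decide +kernel

theorem log712_final11 : allBlock log712.chkFinal 83160 512 11 = true := by decide +kernel

theorem log712_final12 : allBlock log712.chkFinal 83160 512 12 = true := by decide +kernel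

theorem log712_final13 : allBlock log712.chkFinal 83160 512 13 = true := by decide +kernel

theorem log712_final14 : allBlock log712.chkFinal 83160 512 14 = true := by decide +kernel

theorem log712_final15 : allBlock log712.chkFinal 83160 512 15 = true := by decide +kernel

theorem log712_final16 : allBlock log712.chkFinal 83160 512 16 = true := by decide +kernel

theorem log712_final17 : allBlock log712.chkFinal 83160 512 17 = true := by decide +kernel

theorem log712_final18 : allBlock log712.chkFinal 83160 512 18 = true := by decide +kernel

theorem log712_final19 : allBlock log712.chkFinal 83160 512 19 = true := by decide +kernel

theorem log712_final20 : allBlock log712.chkFinal 83160 512 20 = true := by decide +kernel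

theorem log712_final21 : allBlock log712.chkFinal 83160 512 21 = true := by decide +kernel

theorem log712_final22 : allBlock log712.chkFinal 83160 512 22 = true := by decide +kernel

theorem log712_final23 : allBlock log712.chkFinal 83160 512 23 = true := by decide +kernel

end Cfsg.Agent.Fus.SymSix.Enum712
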