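import Cfsg.Agent.Lib.Fus.SymSix.Enum712.Log712Data

/-! Checks of a coset enumeration. -/

set_option autoImplicit false
set_option maxRecDepth 100000
set_option maxHeartbeats 4000000
set_option Elab.async false

namespace Cfsg.Agent.Fus.SymSix.Enum712

open Cfsg.Agent.Spor.Cos

theorem log712_final24 : allBlock log712.chkFinal 83160 512 24 = true := by decide +kernel

theorem log712_final25 : allBlock log712.chkFinal 83160 512 25 = true := by decide +kernel

theorem log712_final26 : allBlock log712.chkFinal 83160 512 26 = true := by decide +kernel

theorem log712_final27 : allBlock log712.chkFinal 83160 512 27 = true := by decide +kernel

theorem log712_final28 : allBlock log712.chkFinal 83160 512 28 = true := by decide +kernel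

theorem log712_final29 : allBlock log712.chkFinal 83160 512 29 = true := by decide +kernel

theorem log712_final30 : allBlock log712.chkFinal 83160 512 30 = true := by decide +kernel

theorem log712_final31 : allBlock log712.chkFinal 83160 512 31 = true := by decide +kernel

theorem log712_final32 : allBlock log712.chkFinal 83160 512 32 = true := by decide +kernel

theorem log712_final33 : allBlock log712.chkFinal 83160 512 33 = true := by decide +kernel

theorem log712_final34 : allBlock log712.chkFinal 83160 512 34 = true := by decide +kernel

theorem log712_final35 : allBlock log712.chkFinal 83160 512 35 = true := by decide +kernel

theorem log712_final36 : allBlock log712.chkFinal 83160 512 36 = true := by decide +kernel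

theorem log712_final37 : allBlock log712.chkFinal 83160 512 37 = true := by decide +kernel

theorem log712_final38 : allBlock log712.chkFinal 83160 512 38 = true := by decide +kernel

theorem log712_final39 : allBlock log712.chkFinal 83160 512 39 = true := by decide +kernel

theorem log712_final40 : allBlock log712.chkFinal 83160 512 40 = true := by decide +kernel

theorem log712_final41 : allBlock log712.chkFinal 83160 512 41 = true := by decide +kernel

theorem log712_final42 : allBlock log712.chkFinal 83160 512 42 = true := by decide +kernel

theorem log712_final43 : allBlock log712.chkFinal 83160 512 43 = true := by decide +kernel

theorem log712_final44 : allBlock log712.chkFinal 83160 512 44 = true := by decide +kernel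

theorem log712_final45 : allBlock log712.chkFinal 83160 512 45 = true := by decide +kernel

theorem log712_final46 : allBlock log712.chkFinal 83160 512 46 = true := by decide +kernel

theorem log712_final47 : allBlock log712.chkFinal 83160 512 47 = true := by decide +kernel

end Cfsg.Agent.Fus.SymSix.Enum712
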