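import Cfsg.Agent.Lib.Fus.SymSix.Enum712.Log712Data

/-! Checks of a coset enumeration. -/

set_option autoImplicit false
set_option maxRecDepth 100000
set_option maxHeartbeats 4000000
set_option Elab.async false

namespace Cfsg.Agent.Fus.SymSix.Enum712

open Cfsg.Agent.Spor.Cos

theorem log712_final48 : allBlock log712.chkFinal 83160 512 48 = true := by decide +kernel

theorem log712_final49 : allBlock log712.chkFinal 83160 512 49 = true := by decide +kernel

theorem log712_final50 : allBlock log712.chkFinal 83160 512 50 = true := by decide +kernel

theorem log712_final51 : allBlock log712.chkFinal 83160 512 51 = true := by decide +kernel

theorem log712_final52 : allBlock log712.chkFinal 83160 512 52 = true := by decide +kernel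

theorem log712_final53 : allBlock log712.chkFinal 83160 512 53 = true := by decide +kernel

theorem log712_final54 : allBlock log712.chkFinal 83160 512 54 = true := by decide +kernel

theorem log712_final55 : allBlock log712.chkFinal 83160 512 55 = true := by decide +kernel

theorem log712_final56 : allBlock log712.chkFinal 83160 512 56 = true := by decide +kernel

theorem log712_final57 : allBlock log712.chkFinal 83160 512 57 = true := by decide +kernel

theorem log712_final58 : allBlock log712.chkFinal 83160 512 58 = true := by decide +kernel

theorem log712_final59 : allBlock log712.chkFinal 83160 512 59 = true := by decide +kernel

theorem log712_final60 : allBlock log712.chkFinal 83160 512 60 = true := by decide +kernel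

theorem log712_final61 : allBlock log712.chkFinal 83160 512 61 = true := by decide +kernel

theorem log712_final62 : allBlock log712.chkFinal 83160 512 62 = true := by decide +kernel

theorem log712_final63 : allBlock log712.chkFinal 83160 512 63 = true := by decide +kernel

theorem log712_final64 : allBlock log712.chkFinal 83160 512 64 = true := by decide +kernel

theorem log712_final65 : allBlock log712.chkFinal 83160 512 65 = true := by decide +kernel

theorem log712_final66 : allBlock log712.chkFinal 83160 512 66 = true := by decide +kernel

theorem log712_final67 : allBlock log712.chkFinal 83160 512 67 = true := by decide +kernel

theorem log712_final68 : allBlock log712.chkFinal 83160 512 68 = true := by decide +kernel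

theorem log712_final69 : allBlock log712.chkFinal 83160 512 69 = true := by decide +kernel

theorem log712_final70 : allBlock log712.chkFinal 83160 512 70 = true := by decide +kernel

theorem log712_final71 : allBlock log712.chkFinal 83160 512 71 = true := by decide +kernel

end Cfsg.Agent.Fus.SymSix.Enum712
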