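import Cfsg.Agent.Lib.Fus.SymSix.Enum712.Log712Data

/-! Checks of a coset enumeration. -/

set_option autoImplicit false
set_option maxRecDepth 100000
set_option maxHeartbeats 4000000
set_option Elab.async false

namespace Cfsg.Agent.Fus.SymSix.Enum712

open Cfsg.Agent.Spor.Cos

theorem log712_final72 : allBlock log712.chkFinal 83160 512 72 = true := by decide +kernel

theorem log712_final73 : allBlock log712.chkFinal 83160 512 73 = true := by decide +kernel

theorem log712_final74 : allBlock log712.chkFinal 83160 512 74 = true := by decide +kernel

theorem log712_final75 : allBlock log712.chkFinal 83160 512 75 = true := by decide +kernel

theorem log712_final76 : allBlock log712.chkFinal 83160 512 76 = true := by decide +kernel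

theorem log712_final77 : allBlock log712.chkFinal 83160 512 77 = true := by decide +kernel

theorem log712_final78 : allBlock log712.chkFinal 83160 512 78 = true := by decide +kernel

theorem log712_final79 : allBlock log712.chkFinal 83160 512 79 = true := by decide +kernel

theorem log712_final80 : allBlock log712.chkFinal 83160 512 80 = true := by decide +kernel

theorem log712_final81 : allBlock log712.chkFinal 83160 512 81 = true := by decide +kernel

theorem log712_final82 : allBlock log712.chkFinal 83160 512 82 = true := by decide +kernel

theorem log712_final83 : allBlock log712.chkFinal 83160 512 83 = true := by decide +kernel

theorem log712_final84 : allBlock log712.chkFinal 83160 512 84 = true := by decide +kernel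

theorem log712_final85 : allBlock log712.chkFinal 83160 512 85 = true := by decide +kernel

theorem log712_final86 : allBlock log712.chkFinal 83160 512 86 = true := by decide +kernel

theorem log712_final87 : allBlock log712.chkFinal 83160 512 87 = true := by decide +kernel

theorem log712_final88 : allBlock log712.chkFinal 83160 512 88 = true := by decide +kernel

theorem log712_final89 : allBlock log712.chkFinal 83160 512 89 = true := by decide +kernel

theorem log712_final90 : allBlock log712.chkFinal 83160 512 90 = true := by decide +kernel

theorem log712_final91 : allBlock log712.chkFinal 83160 512 91 = true := by decide +kernel

theorem log712_final92 : allBlock log712.chkFinal 83160 512 92 = true := by decide +kernel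

theorem log712_final93 : allBlock log712.chkFinal 83160 512 93 = true := by decide +kernel

theorem log712_final94 : allBlock log712.chkFinal 83160 512 94 = true := by decide +kernel

theorem log712_final95 : allBlock log712.chkFinal 83160 512 95 = true := by decide +kernel

end Cfsg.Agent.Fus.SymSix.Enum712
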