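import Cfsg.Agent.Lib.Fus.SymSix.Enum712.Log712Data

/-! Checks of a coset enumeration. -/

set_option autoImplicit false
set_option maxRecDepth 100000
set_option maxHeartbeats 4000000
set_option Elab.async false

namespace Cfsg.Agent.Fus.SymSix.Enum712

open Cfsg.Agent.Spor.Cos

theorem log712_final96 : allBlock log712.chkFinal 83160 512 96 = true := by decide +kernel

theorem log712_final97 : allBlock log712.chkFinal 83160 512 97 = true := by decide +kernel

theorem log712_final98 : allBlock log712.chkFinal 83160 512 98 = true := by decide +kernel

theorem log712_final99 : allBlock log712.chkFinal 83160 512 99 = true := by decide +kernel

theorem log712_final100 : allBlock log712.chkFinal 83160 512 100 = true := by decide +kernel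

theorem log712_final101 : allBlock log712.chkFinal 83160 512 101 = true := by decide +kernel

theorem log712_final102 : allBlock log712.chkFinal 83160 512 102 = true := by decide +kernel

theorem log712_final103 : allBlock log712.chkFinal 83160 512 103 = true := by decide +kernel

theorem log712_final104 : allBlock log712.chkFinal 83160 512 104 = true := by decide +kernel

theorem log712_final105 : allBlock log712.chkFinal 83160 512 105 = true := by decide +kernel

theorem log712_final106 : allBlock log712.chkFinal 83160 512 106 = true := by decide +kernel

theorem log712_final107 : allBlock log712.chkFinal 83160 512 107 = true := by decide +kernel

theorem log712_final108 : allBlock log712.chkFinal 83160 512 108 = true := by decide +kernel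

theorem log712_final109 : allBlock log712.chkFinal 83160 512 109 = true := by decide +kernel

theorem log712_final110 : allBlock log712.chkFinal 83160 512 110 = true := by decide +kernel

theorem log712_final111 : allBlock log712.chkFinal 83160 512 111 = true := by decide +kernel

theorem log712_final112 : allBlock log712.chkFinal 83160 512 112 = true := by decide +kernel

theorem log712_final113 : allBlock log712.chkFinal 83160 512 113 = true := by decide +kernel

theorem log712_final114 : allBlock log712.chkFinal 83160 512 114 = true := by decide +kernel

theorem log712_final115 : allBlock log712.chkFinal 83160 512 115 = true := by decide +kernel

theorem log712_final116 : allBlock log712.chkFinal 83160 512 116 = true := by decide +kernel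

theorem log712_final117 : allBlock log712.chkFinal 83160 512 117 = true := by decide +kernel

theorem log712_final118 : allBlock log712.chkFinal 83160 512 118 = true := by decide +kernel

theorem log712_final119 : allBlock log712.chkFinal 83160 512 119 = true := by decide +kernel

end Cfsg.Agent.Fus.SymSix.Enum712
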