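import Cfsg.Agent.Lib.Fus.SymSix.Enum712.Log712Data

/-! Checks of a coset enumeration. -/

set_option autoImplicit false
set_option maxRecDepth 100000
set_option maxHeartbeats 4000000
set_option Elab.async false

namespace Cfsg.Agent.Fus.SymSix.Enum712

open Cfsg.Agent.Spor.Cos

theorem log712_final144 : allBlock log712.chkFinal 83160 512 144 = true := by decide +kernel

theorem log712_final145 : allBlock log712.chkFinal 83160 512 145 = true := by decide +kernel

theorem log712_final146 : allBlock log712.chkFinal 83160 512 146 = true := by decide +kernel

theorem log712_final147 : allBlock log712.chkFinal 83160 512 147 = true := by decide +kernel

theorem log712_final148 : allBlock log712.chkFinal 83160 512 148 = true := by decide +kernel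

theorem log712_final149 : allBlock log712.chkFinal 83160 512 149 = true := by decide +kernel

theorem log712_final150 : allBlock log712.chkFinal 83160 512 150 = true := by decide +kernel

theorem log712_final151 : allBlock log712.chkFinal 83160 512 151 = true := by decide +kernel

theorem log712_final152 : allBlock log712.chkFinal 83160 512 152 = true := by decide +kernel

theorem log712_final153 : allBlock log712.chkFinal 83160 512 153 = true := by decide +kernel

theorem log712_final154 : allBlock log712.chkFinal 83160 512 154 = true := by decide +kernel

theorem log712_final155 : allBlock log712.chkFinal 83160 512 155 = true := by decide +kernel

theorem log712_final156 : allBlock log712.chkFinal 83160 512 156 = true := by decide +kernel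

theorem log712_final157 : allBlock log712.chkFinal 83160 512 157 = true := by decide +kernel

theorem log712_final158 : allBlock log712.chkFinal 83160 512 158 = true := by decide +kernel

theorem log712_final159 : allBlock log712.chkFinal 83160 512 159 = true := by decide +kernel

theorem log712_final160 : allBlock log712.chkFinal 83160 512 160 = true := by decide +kernel

theorem log712_final161 : allBlock log712.chkFinal 83160 512 161 = true := by decide +kernel

theorem log712_final162 : allBlock log712.chkFinal 83160 512 162 = true := by decide +kernel

end Cfsg.Agent.Fus.SymSix.Enum712
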