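import Cfsg.Agent.Lib.Fus.SymSix.Enum712.Log712Part0
import Cfsg.Agent.Lib.Fus.SymSix.Enum712.Log712Part1
import Cfsg.Agent.Lib.Fus.SymSix.Enum712.Log712Part2
import Cfsg.Agent.Lib.Fus.SymSix.Enum712.Log712Part3
import Cfsg.Agent.Lib.Fus.SymSix.Enum712.Log712Part4
import Cfsg.Agent.Lib.Fus.SymSix.Enum712.Log712Def0
import Cfsg.Agent.Lib.Fus.SymSix.Enum712.Log712Def1
import Cfsg.Agent.Lib.Fus.SymSix.Enum712.Log712Final0
import Cfsg.Agent.Lib.Fus.SymSix.Enum712.Log712Final1
import Cfsg.Agent.Lib.Fus.SymSix.Enum712.Log712Final2
import Cfsg.Agent.Lib.Fus.SymSix.Enum712.Log712Final3
import Cfsg.Agent.Lib.Fus.SymSix.Enum712.Log712Final4
import Cfsg.Agent.Lib.Fus.SymSix.Enum712.Log712Final5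
import Cfsg.Agent.Lib.Fus.SymSix.Enum712.Log712Final6
import Cfsg.Agent.Lib.Fus.SymSix.AltModel

/-! A checked coset enumeration. -/

set_option autoImplicit false
set_option maxRecDepth 100000
set_option maxHeartbeats 4000000
set_option Elab.async false

namespace Cfsg.Agent.Fus.SymSix.Enum712

open Cfsg.Agent.Spor.Cos

theorem log712_defs : ∀ i, i + 1 < log712.M → log712.chkDef i = true := by
  intro i hi
  change i + 1 < 15199 at hi
  refine of_allBlock (n := 15198) (size := 512) (by decide) (fun j hj => ?_) (by omega)
  have hj' : j < 30 := by omega
  interval_cases j
  · exact log712_def0
  · exact log712_def1
  · exact log712_def2
  · exact log712_def3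
  · exact log712_def4
  · exact log712_def5
  · exact log712_def6
  · exact log712_def7
  · exact log712_def8
  · exact log712_def9
  · exact log712_def10
  · exact log712_def11
  · exact log712_def12
  · exact log712_def13
  · exact log712_def14
  · exact log712_def15
  · exact log712_def16
  · exact log712_def17
  · exact log712_def18
  · exact log712_def19
  · exact log712_def20
  · exact log712_def21
  · exact log712_def22
  · exact log712_def23
  · exact log712_def24
  · exact log712_def25
  · exact log712_def26
  · exact log712_def27
  · exact log712_def28
  · exact log712_def29

theorem log712_facts : ∀ i, log712.M ≤ i + 1 → i < log712.nF → ∃ J, log712.chkFact i J = true := by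
  exact log712.facts_of_covers (Log.Covers.trans log712 (Log.Covers.trans log712 (Log.Covers.trans log712 (Log.Covers.trans log712 (Log.Covers.trans log712 (log712.covers_of_part _ _ _ log712_part0) (Log.Covers.trans log712 (log712.covers_of_part _ _ _ log712_part1) (log712.covers_of_part _ _ _ log712_part2))) (Log.Covers.trans log712 (Log.Covers.trans log712 (log712.covers_of_part _ _ _ log712_part3) (log712.covers_of_part _ _ _ log712_part4)) (Log.Covers.trans log712 (log712.covers_of_part _ _ _ log712_part5) (log712.covers_of_part _ _ _ log712_part6)))) (Log.Covers.trans log712 (Log.Covers.trans log712 (log712.covers_of_part _ _ _ log712_part7) (Log.Covers.trans log712 (log712.covers_of_part _ _ _ log712_part8) (log712.covers_of_part _ _ _ log712_part9))) (Log.Covers.trans log712 (Log.Covers.trans log712 (log712.covers_of_part _ _ _ log712_part10) (log712.covers_of_part _ _ _ log712_part11)) (Log.Covers.trans log712 (log712.covers_of_part _ _ _ log712_part12) (log712.covers_of_part _ _ _ log712_part13))))) (Log.Covers.trans log712 (Log.Covers.trans log712 (Log.Covers.trans log712 (log712.covers_of_part _ _ _ log712_part14) (Log.Covers.trans log712 (log712.covers_of_part _ _ _ log712_part15) (log712.covers_of_part _ _ _ log712_part16))) (Log.Covers.trans log712 (Log.Covers.trans log712 (log712.covers_of_part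 _ _ _ log712_part17) (log712.covers_of_part _ _ _ log712_part18)) (Log.Covers.trans log712 (log712.covers_of_part _ _ _ log712_part19) (log712.covers_of_part _ _ _ log712_part20)))) (Log.Covers.trans log712 (Log.Covers.trans log712 (log712.covers_of_part _ _ _ log712_part21) (Log.Covers.trans log712 (log712.covers_of_part _ _ _ log712_part22) (log712.covers_of_part _ _ _ log712_part23))) (Log.Covers.trans log712 (Log.Covers.trans log712 (log712.covers_of_part _ _ _ log712_part24) (log712.covers_of_part _ _ _ log712_part25)) (Log.Covers.trans log712 (log712.covers_of_part _ _ _ log712_part26) (log712.covers_of_part _ _ _ log712_part27)))))) (Log.Covers.trans log712 (Log.Covers.trans log712 (Log.Covers.trans log712 (Log.Covers.trans log712 (log712.covers_of_part _ _ _ log712_part28) (Log.Covers.trans log712 (log712.covers_of_part _ _ _ log712_part29) (log712.covers_of_part _ _ _ log712_part30))) (Log.Covers.trans log712 (Log.Covers.trans log712 (log712.covers_of_part _ _ _ log712_part31) (log712.covers_of_part _ _ _ log712_part32)) (Log.Covers.trans log712 (log712.covers_of_part _ _ _ log712_part33) (log712.covers_of_part _ _ _ log712_part34)))) (Log.Covers.trans log712 (Log.Covers.trans log712 (log712.covers_of_part _ _ _ log712_part35) (Log.Covers.trans log712 (log712.covers_of_part _ _ _ log712_part36)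 (log712.covers_of_part _ _ _ log712_part37))) (Log.Covers.trans log712 (Log.Covers.trans log712 (log712.covers_of_part _ _ _ log712_part38) (log712.covers_of_part _ _ _ log712_part39)) (Log.Covers.trans log712 (log712.covers_of_part _ _ _ log712_part40) (log712.covers_of_part _ _ _ log712_part41))))) (Log.Covers.trans log712 (Log.Covers.trans log712 (Log.Covers.trans log712 (log712.covers_of_part _ _ _ log712_part42) (Log.Covers.trans log712 (log712.covers_of_part _ _ _ log712_part43) (log712.covers_of_part _ _ _ log712_part44))) (Log.Covers.trans log712 (Log.Covers.trans log712 (log712.covers_of_part _ _ _ log712_part45) (log712.covers_of_part _ _ _ log712_part46)) (Log.Covers.trans log712 (log712.covers_of_part _ _ _ log712_part47) (log712.covers_of_part _ _ _ log712_part48)))) (Log.Covers.trans log712 (Log.Covers.trans log712 (Log.Covers.trans log712 (log712.covers_of_part _ _ _ log712_part49) (log712.covers_of_part _ _ _ log712_part50)) (Log.Covers.trans log712 (log712.covers_of_part _ _ _ log712_part51) (log712.covers_of_part _ _ _ log712_part52))) (Log.Covers.trans log712 (Log.Covers.trans log712 (log712.covers_of_part _ _ _ log712_part53) (log712.covers_of_part _ _ _ log712_part54)) (Log.Covers.trans log712 (log712.covers_of_part _ _ _ log712_part55) (log712.covers_of_part _ _ _ log712_part56)))))))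 rfl rfl

theorem log712_checks : log712.Checks where
  pos := by decide +kernel
  defs := log712_defs
  facts := log712_facts
  final := by
    intro k hk
    change k < 10395 * 8 at hk
    refine of_allBlock (n := 83160) (size := 512) (by decide) (fun j hj => ?_) (by omega)
    have hj' : j < 163 := by omega
    interval_cases j
    · exact log712_final0
    · exact log712_final1
    · exact log712_final2
    · exact log712_final3
    · exact log712_final4
    · exact log712_final5
    · exact log712_final6
    · exact log712_final7
    · exact log712_final8
    · exact log712_final9
    · exact log712_final10
    · exact log712_final11
    · exact log712_final12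
    · exact log712_final13
    · exact log712_final14
    · exact log712_final15
    · exact log712_final16
    · exact log712_final17
    · exact log712_final18
    · exact log712_final19
    · exact log712_final20
    · exact log712_final21
    · exact log712_final22
    · exact log712_final23
    · exact log712_final24
    · exact log712_final25
    · exact log712_final26
    · exact log712_final27
    · exact log712_final28
    · exact log712_final29
    · exact log712_final30
    · exact log712_final31
    · exact log712_final32
    · exact log712_final33
    · exact log712_final34
    · exact log712_final35
    · exact log712_final36
    · exact log712_final37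
    · exact log712_final38
    · exact log712_final39
    · exact log712_final40
    · exact log712_final41
    · exact log712_final42
    · exact log712_final43
    · exact log712_final44
    · exact log712_final45
    · exact log712_final46
    · exact log712_final47
    · exact log712_final48
    · exact log712_final49
    · exact log712_final50
    · exact log712_final51
    · exact log712_final52
    · exact log712_final53
    · exact log712_final54
    · exact log712_final55
    · exact log712_final56
    · exact log712_final57
    · exact log712_final58
    · exact log712_final59
    · exact log712_final60
    · exact log712_final61
    · exact log712_final62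
    · exact log712_final63
    · exact log712_final64
    · exact log712_final65
    · exact log712_final66
    · exact log712_final67
    · exact log712_final68
    · exact log712_final69
    · exact log712_final70
    · exact log712_final71
    · exact log712_final72
    · exact log712_final73
    · exact log712_final74
    · exact log712_final75
    · exact log712_final76
    · exact log712_final77
    · exact log712_final78
    · exact log712_final79
    · exact log712_final80
    · exact log712_final81
    · exact log712_final82
    · exact log712_final83
    · exact log712_final84
    · exact log712_final85
    · exact log712_final86
    · exact log712_final87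
    · exact log712_final88
    · exact log712_final89
    · exact log712_final90
    · exact log712_final91
    · exact log712_final92
    · exact log712_final93
    · exact log712_final94
    · exact log712_final95
    · exact log712_final96
    · exact log712_final97
    · exact log712_final98
    · exact log712_final99
    · exact log712_final100
    · exact log712_final101
    · exact log712_final102
    · exact log712_final103
    · exact log712_final104
    · exact log712_final105
    · exact log712_final106
    · exact log712_final107
    · exact log712_final108
    · exact log712_final109
    · exact log712_final110
    · exact log712_final111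
    · exact log712_final112
    · exact log712_final113
    · exact log712_final114
    · exact log712_final115
    · exact log712_final116
    · exact log712_final117
    · exact log712_final118
    · exact log712_final119
    · exact log712_final120
    · exact log712_final121
    · exact log712_final122
    · exact log712_final123
    · exact log712_final124
    · exact log712_final125
    · exact log712_final126
    · exact log712_final127
    · exact log712_final128
    · exact log712_final129
    · exact log712_final130
    · exact log712_final131
    · exact log712_final132
    · exact log712_final133
    · exact log712_final134
    · exact log712_final135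
    · exact log712_final136
    · exact log712_final137
    · exact log712_final138
    · exact log712_final139
    · exact log712_final140
    · exact log712_final141
    · exact log712_final142
    · exact log712_final143
    · exact log712_final144
    · exact log712_final145
    · exact log712_final146
    · exact log712_final147
    · exact log712_final148
    · exact log712_final149
    · exact log712_final150
    · exact log712_final151
    · exact log712_final152
    · exact log712_final153
    · exact log712_final154
    · exact log712_final155
    · exact log712_final156
    · exact log712_final157
    · exact log712_final158
    · exact log712_final159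
    · exact log712_final160
    · exact log712_final161
    · exact log712_final162

theorem log712_cert : PatCert base712 log712 where
  hC := log712_checks
  hn := rfl
  hbase := by decide +kernel
  hder := by decide +kernel
  hsub := by decide +kernel

theorem log712_N : log712.N = 10395 := rfl

end Cfsg.Agent.Fus.SymSix.Enum712
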