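import Cfsg.Agent.Lib.Fus.SymSix.Enum712.Log712Data

/-! Checks of a coset enumeration. -/

set_option autoImplicit false
set_option maxRecDepth 100000
set_option maxHeartbeats 4000000
set_option Elab.async false

namespace Cfsg.Agent.Fus.SymSix.Enum712

open Cfsg.Agent.Spor.Cos

theorem log712_final120 : allBlock log712.chkFinal 83160 512 120 = true := by decide +kernel

theorem log712_final121 : allBlock log712.chkFinal 83160 512 121 = true := by decide +kernel

theorem log712_final122 : allBlock log712.chkFinal 83160 512 122 = true := by decide +kernel

theorem log712_final123 : allBlock log712.chkFinal 83160 512 123 = true := by decide +kernel

theorem log712_final124 : allBlock log712.chkFinal 83160 512 124 = true := by decide +kernel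

theorem log712_final125 : allBlock log712.chkFinal 83160 512 125 = true := by decide +kernel

theorem log712_final126 : allBlock log712.chkFinal 83160 512 126 = true := by decide +kernel

theorem log712_final127 : allBlock log712.chkFinal 83160 512 127 = true := by decide +kernel

theorem log712_final128 : allBlock log712.chkFinal 83160 512 128 = true := by decide +kernel

theorem log712_final129 : allBlock log712.chkFinal 83160 512 129 = true := by decide +kernel

theorem log712_final130 : allBlock log712.chkFinal 83160 512 130 = true := by decide +kernel

theorem log712_final131 : allBlock log712.chkFinal 83160 512 131 = true := by decide +kernel

theorem log712_final132 : allBlock log712.chkFinal 83160 512 132 = true := by decide +kernel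

theorem log712_final133 : allBlock log712.chkFinal 83160 512 133 = true := by decide +kernel

theorem log712_final134 : allBlock log712.chkFinal 83160 512 134 = true := by decide +kernel

theorem log712_final135 : allBlock log712.chkFinal 83160 512 135 = true := by decide +kernel

theorem log712_final136 : allBlock log712.chkFinal 83160 512 136 = true := by decide +kernel

theorem log712_final137 : allBlock log712.chkFinal 83160 512 137 = true := by decide +kernel

theorem log712_final138 : allBlock log712.chkFinal 83160 512 138 = true := by decide +kernel

theorem log712_final139 : allBlock log712.chkFinal 83160 512 139 = true := by decide +kernel

theorem log712_final140 : allBlock log712.chkFinal 83160 512 140 = true := by decide +kernel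

theorem log712_final141 : allBlock log712.chkFinal 83160 512 141 = true := by decide +kernel

theorem log712_final142 : allBlock log712.chkFinal 83160 512 142 = true := by decide +kernel

theorem log712_final143 : allBlock log712.chkFinal 83160 512 143 = true := by decide +kernel

end Cfsg.Agent.Fus.SymSix.Enum712
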